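import Groth.Prelude.Def_Tame
import Mathlib

/-! Distance of lattices over a one-dimensional Noetherian domain and the order of the
determinant. -/

universe u

open scoped nonZeroDivisors

namespace Groth.Agent.IntThLib

section Rel

variable (A : Type u) [CommRing A] {V : Type u} [AddCommGroup V] [Module A V]

/-- The length of `M / N`. -/
noncomputable def relLen (M N : Submodule A V) : ℕ∞ := Module.length A (↥M ⧸ N.submoduleOf M)

variable {A}

theorem relLen_add {L N M : Submodule A V} (h₁ : L ≤ N) (h₂ : N ≤ M) :
    relLen A M L = relLen A N L + relLen A M N := by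
  let f : (↥N ⧸ L.submoduleOf N) →ₗ[A] (↥M ⧸ L.submoduleOf M) :=
    Submodule.mapQ _ _ (Submodule.inclusion h₂) (fun _ hx => hx)
  let g : (↥M ⧸ L.submoduleOf M) →ₗ[A] (↥M ⧸ N.submoduleOf M) :=
    Submodule.factor (fun _ hx => h₁ hx)
  refine Module.length_eq_add_of_exact f g ?_ (Submodule.factor_surjective _) ?_
  · rw [injective_iff_map_eq_zero]
    intro a
    induction a using Submodule.Quotient.induction_on with
    | _ a =>
      intro ha
      simp only [f, Submodule.mapQ_apply, Submodule.Quotient.mk_eq_zero] at ha ⊢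
      exact ha
  · intro z
    induction z using Submodule.Quotient.induction_on with
    | _ z =>
      simp only [g, Submodule.factor, Submodule.mapQ_apply, LinearMap.id_coe, id_eq,
        Submodule.Quotient.mk_eq_zero, Set.mem_range]
      constructor
      · intro hz
        exact ⟨Submodule.Quotient.mk ⟨z, hz⟩, rfl⟩
      · rintro ⟨a, ha⟩
        induction a using Submodule.Quotient.induction_on with
        | _ a =>
          simp only [f, Submodule.mapQ_apply, Submodule.Quotient.eq] at ha
          have hd : (a : V) - (z : V) ∈ N := h₁ ha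
          show (z : V) ∈ N
          simpa using N.sub_mem a.2 hd

theorem relLen_self (M : Submodule A V) : relLen A M M = 0 := by
  rw [relLen, Module.length_eq_zero_iff, Submodule.Quotient.subsingleton_iff,
    Submodule.submoduleOf_self]

theorem relLen_map {M N : Submodule A V} (φ : V →ₗ[A] V) (hφ : Function.Injective φ) :
    relLen A (M.map φ) (N.map φ) = relLen A M N := by
  symm
  refine LinearEquiv.length_eq (Submodule.Quotient.equiv _ _ (Submodule.equivMapOfInjective φ hφ M) ?_)
  ext ⟨y, hy⟩
  simp only [Submodule.mem_map, Submodule.submoduleOf, Submodule.mem_comap, Submodule.subtype_apply]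
  constructor
  · rintro ⟨x, hx, hxy⟩
    exact ⟨x, hx, congrArg Subtype.val hxy⟩
  · rintro ⟨x, hx, hxy⟩
    obtain ⟨m, hm, rfl⟩ := hy
    have : x = m := hφ hxy
    exact ⟨⟨m, hm⟩, this ▸ hx, rfl⟩

/-- The signed distance of two submodules. -/
noncomputable def dist (M N : Submodule A V) : ℤ :=
  ((relLen A M (M ⊓ N)).toNat : ℤ) - ((relLen A N (M ⊓ N)).toNat : ℤ)

theorem relLen_ne_top_of_le {L N M : Submodule A V} (h₁ : L ≤ N) (h₂ : N ≤ M)
    (h : relLen A M L ≠ ⊤) : relLen A N L ≠ ⊤ ∧ relLen A M N ≠ ⊤ := by
  rwa [relLen_add h₁ h₂, ne_eq, ENat.add_eq_top, not_or] at h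

theorem dist_eq {L M N : Submodule A V} (hM : L ≤ M) (hN : L ≤ N)
    (fM : relLen A M L ≠ ⊤) (fN : relLen A N L ≠ ⊤) :
    dist M N = ((relLen A M L).toNat : ℤ) - ((relLen A N L).toNat : ℤ) := by
  have h : L ≤ M ⊓ N := le_inf hM hN
  obtain ⟨f1, f2⟩ := relLen_ne_top_of_le h inf_le_left fM
  obtain ⟨-, f3⟩ := relLen_ne_top_of_le h inf_le_right fN
  rw [dist, relLen_add h (inf_le_left : M ⊓ N ≤ M), relLen_add h (inf_le_right : M ⊓ N ≤ N),
    ENat.toNat_add f1 f2, ENat.toNat_add f1 f3]
  push_cast
  ring

end Rel

variable {A : Type u} [CommRing A] [IsDomain A] [IsNoetherianRing A] [Ring.KrullDimLE 1 A]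

theorem length_ne_top_of_smul_eq_zero {M : Type u} [AddCommGroup M] [Module A M] [Module.Finite A M]
    {a : A} (ha : a ≠ 0) (h : ∀ m : M, a • m = 0) : Module.length A M ≠ ⊤ := by
  obtain ⟨n, s, hs⟩ := Module.Finite.exists_fin (R := A) (M := M)
  let f : (Fin n → A ⧸ Ideal.span {a}) →ₗ[A] M :=
    ∑ i, (Submodule.liftQ (Ideal.span {a}) (LinearMap.toSpanSingleton A M (s i)) (by
      rw [Ideal.span, Submodule.span_le, Set.singleton_subset_iff]
      exact h _)) ∘ₗ LinearMap.proj i
  have hf : Function.Surjective f := by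
    rw [← LinearMap.range_eq_top, eq_top_iff, ← hs, Submodule.span_le, Set.range_subset_iff]
    intro i
    refine ⟨Pi.single i (Submodule.Quotient.mk 1), ?_⟩
    simp only [f, LinearMap.coe_sum, Finset.sum_apply, LinearMap.comp_apply, LinearMap.proj_apply]
    rw [Finset.sum_eq_single i (fun j _ hj => by simp [Pi.single_eq_of_ne hj])
      (fun hi => absurd (Finset.mem_univ i) hi), Pi.single_eq_same]
    show (LinearMap.toSpanSingleton A M (s i)) 1 = s i
    simp
  refine ne_top_of_le_ne_top ?_ (Module.length_le_of_surjective f hf)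
  rw [Module.length_pi_of_fintype]
  refine Finset.sum_induction _ (· ≠ ⊤) (fun p q hp hq => by simp [hp, hq]) (by simp) fun i _ => ?_
  rw [Module.length_ne_top_iff]
  exact isFiniteLength_quotient_span_singleton A (mem_nonZeroDivisors_of_ne_zero ha)

variable {K : Type u} [Field K] [Algebra A K] [IsFractionRing A K]
  {V : Type u} [AddCommGroup V] [Module K V] [Module A V] [IsScalarTower A K V]

theorem exists_smul_mem (N : Submodule A V) [Submodule.IsLattice K N] (v : V) :
    ∃ a : A, a ≠ 0 ∧ a • v ∈ N := by
  have hv : v ∈ Submodule.span K (N : Set V) := by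
    rw [Submodule.IsLattice.span_eq_top]
    trivial
  induction hv using Submodule.span_induction with
  | mem x hx => exact ⟨1, one_ne_zero, by rwa [one_smul]⟩
  | zero => exact ⟨1, one_ne_zero, by simp⟩
  | add x y _ _ hx hy =>
    obtain ⟨a, ha, hax⟩ := hx
    obtain ⟨b, hb, hby⟩ := hy
    refine ⟨a * b, mul_ne_zero ha hb, ?_⟩
    rw [smul_add]
    refine N.add_mem ?_ ?_
    · rw [mul_comm, mul_smul]; exact N.smul_mem b hax
    · rw [mul_smul]; exact N.smul_mem a hby
  | smul c x _ hx =>
    obtain ⟨a, ha, hax⟩ := hx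
    obtain ⟨⟨r, s⟩, hrs⟩ := IsLocalization.surj A⁰ c
    refine ⟨(s : A) * a, mul_ne_zero (nonZeroDivisors.ne_zero s.2) ha, ?_⟩
    have : ((s : A) * a) • c • x = r • (a • x) := by
      rw [← algebraMap_smul K ((s : A) * a), smul_smul, map_mul, mul_right_comm, mul_comm _ c, hrs,
        mul_smul, algebraMap_smul, algebraMap_smul]
    rw [this]
    exact N.smul_mem r hax

theorem exists_smul_le (M N : Submodule A V) (hM : M.FG) [Submodule.IsLattice K N] :
    ∃ a : A, a ≠ 0 ∧ ∀ m ∈ M, a • m ∈ N := by
  classical
  obtain ⟨s, rfl⟩ := hM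
  choose a ha hav using fun v => exists_smul_mem (K := K) N v
  refine ⟨∏ v ∈ s, a v, Finset.prod_ne_zero_iff.mpr fun v _ => ha v, fun m hm => ?_⟩
  induction hm using Submodule.span_induction with
  | mem x hx =>
    rw [Finset.prod_eq_prod_sdiff_singleton_mul hx, mul_smul]
    exact N.smul_mem _ (hav x)
  | zero => simp
  | add x y _ _ hx hy => rw [smul_add]; exact N.add_mem hx hy
  | smul c x _ hx => rw [smul_comm]; exact N.smul_mem c hx

theorem relLen_lattice_ne_top {L M : Submodule A V} (hM : M.FG) [Submodule.IsLattice K L] :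
    relLen A M L ≠ ⊤ := by
  obtain ⟨a, ha, h⟩ := exists_smul_le (K := K) M L hM
  haveI : Module.Finite A M := Module.Finite.iff_fg.mpr hM
  refine length_ne_top_of_smul_eq_zero ha fun z => ?_
  induction z using Submodule.Quotient.induction_on with
  | _ z =>
    rw [← Submodule.Quotient.mk_smul, Submodule.Quotient.mk_eq_zero]
    exact h z z.2

theorem exists_lattice_le (M N : Submodule A V) [Submodule.IsLattice K M] [Submodule.IsLattice K N] :
    ∃ L : Submodule A V, Submodule.IsLattice K L ∧ L ≤ M ∧ L ≤ N := by
  obtain ⟨a, ha, h⟩ := exists_smul_le (K := K) M N Submodule.IsLattice.fg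
  refine ⟨M.map (a • LinearMap.id), ⟨Submodule.IsLattice.fg.map _, ?_⟩, ?_, ?_⟩
  · rw [eq_top_iff, ← Submodule.IsLattice.span_eq_top (A := K) (M := M), Submodule.span_le]
    intro m hm
    have h1 : a • m ∈ Submodule.span K (M.map (a • LinearMap.id) : Set V) :=
      Submodule.subset_span ⟨m, hm, rfl⟩
    rw [← algebraMap_smul K a m, Submodule.smul_mem_iff _
      (fun h => ha (IsFractionRing.injective A K (by rwa [map_zero])))] at h1
    exact h1
  · rintro _ ⟨m, hm, rfl⟩
    exact M.smul_mem a hm
  · rintro _ ⟨m, hm, rfl⟩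
    exact h m hm

theorem dist_add (M₁ M₂ M₃ : Submodule A V) [Submodule.IsLattice K M₁] [Submodule.IsLattice K M₂]
    [Submodule.IsLattice K M₃] : dist M₁ M₃ = dist M₁ M₂ + dist M₂ M₃ := by
  obtain ⟨L', hL', h1, h2⟩ := exists_lattice_le (K := K) M₁ M₂
  obtain ⟨L, hL, hl, h3⟩ := exists_lattice_le (K := K) L' M₃
  have f : ∀ (M : Submodule A V) [Submodule.IsLattice K M], relLen A M L ≠ ⊤ := fun M _ =>
    relLen_lattice_ne_top (K := K) Submodule.IsLattice.fg
  rw [dist_eq (hl.trans h1) h3 (f M₁) (f M₃), dist_eq (hl.trans h1) (hl.trans h2) (f M₁) (f M₂),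
    dist_eq (hl.trans h2) h3 (f M₂) (f M₃)]
  ring

theorem dist_self (M : Submodule A V) : dist M M = 0 := by simp [dist, relLen_self]

theorem dist_of_le {M N : Submodule A V} (h : N ≤ M) : dist M N = ((relLen A M N).toNat : ℤ) := by
  rw [dist, inf_eq_right.mpr h, relLen_self]
  simp

theorem isLattice_map (M : Submodule A V) [Submodule.IsLattice K M] (φ : V →ₗ[K] V)
    (hφ : Function.Surjective φ) : Submodule.IsLattice K (M.map (φ.restrictScalars A)) := by
  refine ⟨Submodule.IsLattice.fg.map _, ?_⟩
  rw [Submodule.map_coe]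
  show Submodule.span K (φ '' (M : Set V)) = ⊤
  rw [Submodule.span_image, Submodule.IsLattice.span_eq_top, Submodule.map_top,
    LinearMap.range_eq_top.mpr hφ]

theorem dist_map (M N : Submodule A V) (φ : V →ₗ[A] V) (hφ : Function.Injective φ) :
    dist (M.map φ) (N.map φ) = dist M N := by
  rw [dist, ← Submodule.map_inf φ hφ, relLen_map φ hφ, relLen_map φ hφ, dist]

theorem dist_map_indep (M N : Submodule A V) [Submodule.IsLattice K M] [Submodule.IsLattice K N]
    (φ : V →ₗ[K] V) (hφ : Function.Bijective φ) :
    dist M (M.map (φ.restrictScalars A)) = dist N (N.map (φ.restrictScalars A)) := by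
  haveI := isLattice_map M φ hφ.2
  haveI := isLattice_map N φ hφ.2
  rw [dist_add (K := K) M N (M.map (φ.restrictScalars A)),
    dist_add (K := K) N (N.map (φ.restrictScalars A)) (M.map (φ.restrictScalars A)),
    dist_map N M (φ.restrictScalars A) hφ.1]
  have := dist_add (K := K) M N M
  rw [dist_self] at this
  omega

theorem dist_comp (M : Submodule A V) [Submodule.IsLattice K M] (φ ψ : V →ₗ[K] V)
    (hφ : Function.Bijective φ) (hψ : Function.Bijective ψ) :
    dist M (M.map ((φ ∘ₗ ψ).restrictScalars A)) =
      dist M (M.map (φ.restrictScalars A)) + dist M (M.map (ψ.restrictScalars A)) := by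
  haveI := isLattice_map M φ hφ.2
  haveI := isLattice_map M ψ hψ.2
  haveI := isLattice_map (M.map (ψ.restrictScalars A)) φ hφ.2
  have : M.map ((φ ∘ₗ ψ).restrictScalars A) =
      (M.map (ψ.restrictScalars A)).map (φ.restrictScalars A) := by
    rw [← Submodule.map_comp]
    rfl
  rw [this, dist_add (K := K) M (M.map (φ.restrictScalars A)),
    dist_map M _ (φ.restrictScalars A) hφ.1]

section OrdFrac

theorem ordFrac_algebraMap {x : A} (hx : x ≠ 0) :
    CycAlg.ordFrac A K (algebraMap A K x) = ((Ring.ord A x).toNat : ℤ) := by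
  rw [CycAlg.ordFrac, dif_pos ⟨inferInstance, inferInstance, inferInstance, inferInstance⟩,
    Ring.ordFrac_eq_ord A hx]
  obtain ⟨n, hn⟩ := ENat.ne_top_iff_exists.mp (Ring.ord_ne_top (mem_nonZeroDivisors_of_ne_zero hx))
  rw [Ring.ordMonoidWithZeroHom_eq_coe A (mem_nonZeroDivisors_of_ne_zero hx) hn.symm, ← hn]
  simp

theorem ordFrac_mul {f g : K} (hf : f ≠ 0) (hg : g ≠ 0) :
    CycAlg.ordFrac A K (f * g) = CycAlg.ordFrac A K f + CycAlg.ordFrac A K g := by
  rw [CycAlg.ordFrac, CycAlg.ordFrac, CycAlg.ordFrac,
    dif_pos ⟨inferInstance, inferInstance, inferInstance, inferInstance⟩,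
    dif_pos ⟨inferInstance, inferInstance, inferInstance, inferInstance⟩,
    dif_pos ⟨inferInstance, inferInstance, inferInstance, inferInstance⟩, map_mul]
  obtain ⟨a, ha⟩ := WithZero.ne_zero_iff_exists.mp ((map_ne_zero (Ring.ordFrac A (K := K))).mpr hf)
  obtain ⟨b, hb⟩ := WithZero.ne_zero_iff_exists.mp ((map_ne_zero (Ring.ordFrac A (K := K))).mpr hg)
  rw [← ha, ← hb, ← WithZero.coe_mul]
  rfl

theorem ordFrac_one : CycAlg.ordFrac A K (1 : K) = 0 := by
  have := ordFrac_mul (A := A) (one_ne_zero (α := K)) one_ne_zero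
  rw [mul_one] at this
  omega

end OrdFrac

section Det

variable {ι : Type u} [Fintype ι] [DecidableEq ι] (b : Module.Basis ι K V)

theorem isLattice_span {w : ι → V} (hw : ⊤ ≤ Submodule.span K (Set.range w)) :
    Submodule.IsLattice K (Submodule.span A (Set.range w)) :=
  ⟨Submodule.fg_span (Set.finite_range w), eq_top_iff.mpr (hw.trans (Submodule.span_mono Submodule.subset_span))⟩

theorem det_toLin_ne_zero {G : Matrix ι ι K} (hG : G.det ≠ 0) :
    Function.Bijective (Matrix.toLin b b G) := by
  haveI := Module.Finite.of_basis b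
  have h : LinearMap.det (Matrix.toLin b b G) ≠ 0 := by rwa [LinearMap.det_toLin]
  exact (LinearMap.equivOfDetNeZero _ h).bijective

/-- The property to be proved by induction on matrices. -/
def DetFormula (G : Matrix ι ι K) : Prop :=
  dist (Submodule.span A (Set.range b))
      ((Submodule.span A (Set.range b)).map ((Matrix.toLin b b G).restrictScalars A)) =
    CycAlg.ordFrac A K G.det

theorem detFormula_mul {G H : Matrix ι ι K} (hG : G.det ≠ 0) (hH : H.det ≠ 0)
    (h₁ : DetFormula (A := A) b G) (h₂ : DetFormula (A := A) b H) :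
    DetFormula (A := A) b (G * H) := by
  haveI := isLattice_span (A := A) (w := b) b.span_eq.ge
  unfold DetFormula at *
  rw [Matrix.toLin_mul b b b, dist_comp _ _ _ (det_toLin_ne_zero b hG) (det_toLin_ne_zero b hH),
    h₁, h₂, Matrix.det_mul, ordFrac_mul hG hH]

theorem detFormula_transvection (t : Matrix.TransvectionStruct ι K) :
    DetFormula (A := A) b t.toMatrix := by
  obtain ⟨i, j, hij, c⟩ := t
  obtain ⟨⟨x, y⟩, hxy⟩ := IsLocalization.surj A⁰ c
  let w : ι → V := fun k => if k = j then (y : A) • b j else b k
  have hy : algebraMap A K (y : A) ≠ 0 := fun h =>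
    nonZeroDivisors.ne_zero y.2 (IsFractionRing.injective A K (by rwa [map_zero]))
  have hw : ⊤ ≤ Submodule.span K (Set.range w) := by
    rw [← b.span_eq, Submodule.span_le, Set.range_subset_iff]
    intro k
    by_cases hk : k = j
    · subst hk
      have : (algebraMap A K (y : A)) • b k ∈ Submodule.span K (Set.range w) := by
        rw [algebraMap_smul]
        exact Submodule.subset_span ⟨k, by simp [w]⟩
      rwa [Submodule.smul_mem_iff _ hy] at this
    · exact Submodule.subset_span ⟨k, by simp [w, hk]⟩
  haveI := isLattice_span (A := A) (w := b) b.span_eq.ge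
  haveI := isLattice_span (A := A) (w := w) hw
  have hdet : (Matrix.transvection i j c).det = 1 := Matrix.det_transvection_of_ne i j hij c
  unfold DetFormula
  rw [Matrix.TransvectionStruct.toMatrix_mk, hdet, ordFrac_one,
    dist_map_indep _ (Submodule.span A (Set.range w)) _
      (det_toLin_ne_zero b (by rw [hdet]; exact one_ne_zero))]
  set φ := Matrix.toLin b b (Matrix.transvection i j c)
  have hb : ∀ k, φ (b k) = b k + if k = j then c • b i else 0 := fun k => by
    rw [Matrix.toLin_self]
    simp [Matrix.transvection, Matrix.one_apply, Matrix.single_apply, add_smul, Finset.sum_add_distrib,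
      ite_and, eq_comm]
  have hwφ : ∀ k, φ (w k) = w k + if k = j then x • w i else 0 := fun k => by
    by_cases hk : k = j
    · subst hk
      simp only [w, if_true, if_neg hij]
      rw [LinearMap.map_smul_of_tower, hb, if_pos rfl, smul_add]
      congr 1
      rw [← algebraMap_smul K, smul_smul, mul_comm, hxy, algebraMap_smul]
    · simp [w, hk, hb]
  suffices (Submodule.span A (Set.range w)).map (φ.restrictScalars A) = Submodule.span A (Set.range w) by
    rw [this, dist_self]
  refine le_antisymm ?_ ?_
  · rw [Submodule.map_span, Submodule.span_le]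
    rintro _ ⟨_, ⟨k, rfl⟩, rfl⟩
    rw [LinearMap.restrictScalars_apply, hwφ]
    refine add_mem (Submodule.subset_span ⟨k, rfl⟩) ?_
    split_ifs
    · exact Submodule.smul_mem _ _ (Submodule.subset_span ⟨i, rfl⟩)
    · exact zero_mem _
  · rw [Submodule.span_le, Set.range_subset_iff]
    intro k
    have hi : w i ∈ (Submodule.span A (Set.range w)).map (φ.restrictScalars A) :=
      ⟨w i, Submodule.subset_span ⟨i, rfl⟩, by rw [LinearMap.restrictScalars_apply, hwφ, if_neg hij, add_zero]⟩
    have hk : φ (w k) ∈ (Submodule.span A (Set.range w)).map (φ.restrictScalars A) :=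
      ⟨w k, Submodule.subset_span ⟨k, rfl⟩, rfl⟩
    have : w k = φ (w k) - if k = j then x • w i else 0 := by rw [hwφ]; abel
    rw [this]
    refine sub_mem hk ?_
    split_ifs
    · exact Submodule.smul_mem _ _ hi
    · exact zero_mem _

theorem detFormula_single (k : ι) {x : A} (hx : x ≠ 0) :
    DetFormula (A := A) b (Matrix.diagonal (Function.update 1 k (algebraMap A K x))) := by
  unfold DetFormula
  have hdet : (Matrix.diagonal (Function.update 1 k (algebraMap A K x))).det = algebraMap A K x := by
    rw [Matrix.det_diagonal, Finset.prod_update_of_mem (Finset.mem_univ k)]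
    simp
  rw [hdet, ordFrac_algebraMap hx]
  set M := Submodule.span A (Set.range b) with hM
  set φ := (Matrix.toLin b b (Matrix.diagonal (Function.update 1 k (algebraMap A K x)))).restrictScalars A
  let bM : Module.Basis ι A M := b.restrictScalars A
  have hb : ∀ i, φ (b i) = (if i = k then x else 1 : A) • b i := fun i => by
    rw [LinearMap.restrictScalars_apply, Matrix.toLin_self, Finset.sum_eq_single i
      (fun j _ hj => by simp [Matrix.diagonal_apply_ne _ hj]) (fun h => absurd (Finset.mem_univ i) h),
      Matrix.diagonal_apply_eq]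
    by_cases hi : i = k
    · subst hi; simp [algebraMap_smul]
    · simp [hi]
  have hle : M.map φ ≤ M := by
    rw [hM, Submodule.map_span, Submodule.span_le]
    rintro _ ⟨_, ⟨i, rfl⟩, rfl⟩
    rw [hb]
    exact Submodule.smul_mem _ _ (Submodule.subset_span ⟨i, rfl⟩)
  rw [dist_of_le hle]
  congr 2
  let g : M →ₗ[A] A ⧸ Ideal.span {x} := (Ideal.span {x}).mkQ ∘ₗ bM.coord k
  have hg : Function.Surjective g := fun a => by
    obtain ⟨a, rfl⟩ := Submodule.mkQ_surjective _ a
    refine ⟨a • bM k, ?_⟩
    simp [g]
    exact (Algebra.smul_def a (1 : A ⧸ Ideal.span {x})).trans (mul_one _)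
  have hker : LinearMap.ker g = (M.map φ).submoduleOf M := by
    apply le_antisymm
    · intro z hz
      simp only [g, LinearMap.mem_ker, LinearMap.comp_apply, Submodule.mkQ_apply,
        Submodule.Quotient.mk_eq_zero, Ideal.mem_span_singleton'] at hz
      obtain ⟨a, ha⟩ := hz
      show (z : V) ∈ M.map φ
      refine ⟨∑ i, (if i = k then a else bM.repr z i) • b i,
        sum_mem fun i _ => Submodule.smul_mem _ _ (Submodule.subset_span ⟨i, rfl⟩), ?_⟩
      rw [map_sum]
      have hz' := congrArg Subtype.val (bM.sum_repr z)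
      simp only [Submodule.coe_sum, Submodule.coe_smul] at hz'
      rw [← hz']
      refine Finset.sum_congr rfl fun i _ => ?_
      rw [map_smul, hb, Module.Basis.restrictScalars_apply, smul_smul]
      by_cases hi : i = k
      · subst hi
        rw [if_pos rfl, if_pos rfl, ha]
        rfl
      · rw [if_neg hi, if_neg hi, mul_one]
    · rintro z ⟨v, hv, hvz⟩
      have hext : g ∘ₗ (φ.restrict (fun v hv => hle ⟨v, hv, rfl⟩) : M →ₗ[A] M) = 0 := by
        refine bM.ext fun i => ?_
        have : φ.restrict (fun v hv => hle ⟨v, hv, rfl⟩) (bM i) = (if i = k then x else 1 : A) • bM i := by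
          apply Subtype.ext
          show φ (bM i : V) = _
          rw [Submodule.coe_smul, Module.Basis.restrictScalars_apply, hb]
        rw [LinearMap.comp_apply, this, LinearMap.zero_apply]
        by_cases hi : i = k
        · subst hi
          rw [if_pos rfl, map_smul]
          simp only [g, LinearMap.comp_apply, Module.Basis.coord_apply, Module.Basis.repr_self,
            Finsupp.single_eq_same, Submodule.mkQ_apply, ← Submodule.Quotient.mk_smul,
            Submodule.Quotient.mk_eq_zero, smul_eq_mul, mul_one]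
          exact Ideal.mem_span_singleton_self x
        · simp [g, hi]
      have hz : z = φ.restrict (fun v hv => hle ⟨v, hv, rfl⟩) ⟨v, hv⟩ :=
        Subtype.ext (by simpa [LinearMap.restrict_apply] using hvz.symm)
      rw [LinearMap.mem_ker, hz]
      exact LinearMap.congr_fun hext ⟨v, hv⟩
  rw [relLen, Ring.ord, ← hker]
  exact (g.quotKerEquivOfSurjective hg).length_eq

theorem detFormula_diagonal (D : ι → K) (hD : (Matrix.diagonal D).det ≠ 0) :
    DetFormula (A := A) b (Matrix.diagonal D) := by
  have hne : ∀ i, D i ≠ 0 := by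
    rw [Matrix.det_diagonal] at hD
    exact fun i => Finset.prod_ne_zero_iff.mp hD i (Finset.mem_univ i)
  have hone : DetFormula (A := A) b (1 : Matrix ι ι K) := by
    unfold DetFormula
    rw [Matrix.toLin_one, Matrix.det_one, ordFrac_one]
    have : (Submodule.span A (Set.range b)).map ((LinearMap.id : V →ₗ[K] V).restrictScalars A) =
        Submodule.span A (Set.range b) := Submodule.map_id _
    rw [this, dist_self]
  have hdiv : ∀ k (c : K), c ≠ 0 →
      DetFormula (A := A) b (Matrix.diagonal (Function.update 1 k c)) := by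
    intro k c hc
    obtain ⟨⟨x, y⟩, hxy⟩ := IsLocalization.surj A⁰ c
    have hy0 : (y : A) ≠ 0 := nonZeroDivisors.ne_zero y.2
    have hy : algebraMap A K (y : A) ≠ 0 := fun h =>
      hy0 (IsFractionRing.injective A K (by rwa [map_zero]))
    have hx : x ≠ 0 := fun h => mul_ne_zero hc hy (by rw [hxy, h, map_zero])
    have hmul : Matrix.diagonal (Function.update 1 k c) *
        Matrix.diagonal (Function.update 1 k (algebraMap A K (y : A))) =
        Matrix.diagonal (Function.update 1 k (algebraMap A K x)) := by
      rw [Matrix.diagonal_mul_diagonal]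
      congr 1
      funext i
      by_cases hi : i = k
      · subst hi; simp [hxy]
      · simp [hi]
    have e1 := detFormula_single b k hx
    have e2 := detFormula_single b k hy0
    have hdc : (Matrix.diagonal (Function.update (1 : ι → K) k c)).det ≠ 0 := by
      rw [Matrix.det_diagonal, Finset.prod_update_of_mem (Finset.mem_univ k)]
      simpa using hc
    have hdy : (Matrix.diagonal (Function.update (1 : ι → K) k (algebraMap A K (y : A)))).det ≠ 0 := by
      rw [Matrix.det_diagonal, Finset.prod_update_of_mem (Finset.mem_univ k)]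
      simpa using hy
    haveI := isLattice_span (A := A) (w := b) b.span_eq.ge
    unfold DetFormula at e1 e2 ⊢
    rw [← hmul, Matrix.toLin_mul b b b,
      dist_comp _ _ _ (det_toLin_ne_zero b hdc) (det_toLin_ne_zero b hdy), e2, Matrix.det_mul,
      ordFrac_mul hdc hdy] at e1
    omega
  have key : ∀ s : Finset ι, DetFormula (A := A) b (Matrix.diagonal fun i => if i ∈ s then D i else 1) := by
    intro s
    induction s using Finset.induction_on with
    | empty => simpa using hone
    | insert k s hk ih =>
      have : (Matrix.diagonal fun i => if i ∈ insert k s then D i else 1) =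
          Matrix.diagonal (Function.update 1 k (D k)) * Matrix.diagonal fun i => if i ∈ s then D i else 1 := by
        rw [Matrix.diagonal_mul_diagonal]
        congr 1
        funext i
        by_cases hi : i = k
        · subst hi; simp [hk]
        · simp [hi]
      rw [this]
      refine detFormula_mul b ?_ ?_ (hdiv k _ (hne k)) ih
      · rw [Matrix.det_diagonal, Finset.prod_update_of_mem (Finset.mem_univ k)]
        simpa using hne k
      · rw [Matrix.det_diagonal, Finset.prod_ne_zero_iff]
        intro i _
        split_ifs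
        exacts [hne i, one_ne_zero]
  simpa using key Finset.univ

theorem dist_map_eq_ordFrac_det [Module.Finite K V] (M : Submodule A V) [Submodule.IsLattice K M]
    (φ : V →ₗ[K] V) (hφ : LinearMap.det φ ≠ 0) :
    dist M (M.map (φ.restrictScalars A)) = CycAlg.ordFrac A K (LinearMap.det φ) := by
  classical
  let b := Module.Free.chooseBasis K V
  haveI := isLattice_span (A := A) (w := b) b.span_eq.ge
  rw [dist_map_indep M (Submodule.span A (Set.range b)) φ (LinearMap.equivOfDetNeZero φ hφ).bijective]
  have hdet : (LinearMap.toMatrix b b φ).det ≠ 0 := by rwa [LinearMap.det_toMatrix]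
  have := Matrix.diagonal_transvection_induction_of_det_ne_zero (DetFormula (A := A) b)
    (LinearMap.toMatrix b b φ) hdet (detFormula_diagonal b) (detFormula_transvection b)
    (fun G H => detFormula_mul b)
  unfold DetFormula at this
  rwa [Matrix.toLin_toMatrix, LinearMap.det_toMatrix] at this

end Det

end Groth.Agent.IntThLib
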