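import Groth.Agent.IntThLib.Euler

/-! `length M/aM - length M[a]` over a one-dimensional Noetherian local ring. -/

universe u

namespace Groth.Agent.IntThLib

variable {A : Type u} [CommRing A] [IsNoetherianRing A] [IsLocalRing A]

theorem isArtinian_atPrime_minimal (p : Ideal A) [p.IsPrime] (hp : p ∈ minimalPrimes A) :
    IsArtinianRing (Localization.AtPrime p) := by
  haveI : IsNoetherianRing (Localization.AtPrime p) :=
    IsLocalization.isNoetherianRing p.primeCompl _ inferInstance
  rw [isArtinianRing_iff_krullDimLE_zero, Ring.KrullDimLE, Order.krullDimLE_iff]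
  show ringKrullDim (Localization.AtPrime p) ≤ _
  rw [IsLocalization.AtPrime.ringKrullDim_eq_height p, Ideal.height_eq_zero_iff.mpr hp]
  exact le_rfl

theorem length_localized_ne_top (p : Ideal A) [p.IsPrime] (hp : p ∈ minimalPrimes A) (N : Type u)
    [AddCommGroup N] [Module A N] [Module.Finite A N] :
    Module.length (Localization.AtPrime p) (LocalizedModule p.primeCompl N) ≠ ⊤ := by
  haveI := isArtinian_atPrime_minimal p hp
  haveI : Module.Finite (Localization.AtPrime p) (LocalizedModule p.primeCompl N) :=
    Module.Finite.of_isLocalizedModule p.primeCompl (LocalizedModule.mkLinearMap p.primeCompl N)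
  exact Module.length_ne_top

theorem length_localized_equiv (p : Ideal A) [p.IsPrime] {N N' : Type u}
    [AddCommGroup N] [Module A N] [AddCommGroup N'] [Module A N'] (e : N ≃ₗ[A] N') :
    Module.length (Localization.AtPrime p) (LocalizedModule p.primeCompl N) =
      Module.length (Localization.AtPrime p) (LocalizedModule p.primeCompl N') := by
  refine (LinearEquiv.ofBijective (LocalizedModule.map p.primeCompl e.toLinearMap) ⟨?_, ?_⟩).length_eq
  · exact LocalizedModule.map_injective p.primeCompl _ e.injective
  · exact LocalizedModule.map_surjective p.primeCompl _ e.surjective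

theorem length_localized_self (p : Ideal A) [p.IsPrime] :
    Module.length (Localization.AtPrime p) (LocalizedModule p.primeCompl (A ⧸ p)) = 1 := by
  haveI : IsSimpleModule (Localization.AtPrime p) (LocalizedModule p.primeCompl (A ⧸ p)) := by
    rw [isSimpleModule_iff_toSpanSingleton_surjective]
    refine ⟨⟨LocalizedModule.mk 1 1, 0, fun h => ?_⟩, fun z hz w => ?_⟩
    · rw [← LocalizedModule.zero_mk (1 : p.primeCompl), LocalizedModule.mk_eq] at h
      obtain ⟨u, hu⟩ := h
      simp only [one_smul, smul_zero] at hu
      rw [Submonoid.smul_def, Algebra.smul_def, mul_one] at hu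
      exact u.2 (Ideal.Quotient.eq_zero_iff_mem.mp hu)
    · induction z using LocalizedModule.induction_on with
      | _ x s =>
        induction w using LocalizedModule.induction_on with
        | _ y t =>
          obtain ⟨x, rfl⟩ := Ideal.Quotient.mk_surjective x
          obtain ⟨y, rfl⟩ := Ideal.Quotient.mk_surjective y
          have hx : x ∈ p.primeCompl := fun hxp => hz (by
            rw [Ideal.Quotient.eq_zero_iff_mem.mpr hxp, LocalizedModule.zero_mk])
          refine ⟨Localization.mk (y * (s : A)) (t * ⟨x, hx⟩), ?_⟩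
          rw [LinearMap.toSpanSingleton_apply, LocalizedModule.mk_smul_mk, LocalizedModule.mk_eq]
          refine ⟨1, ?_⟩
          simp only [Submonoid.smul_def, Submonoid.coe_mul, Submonoid.coe_one, one_smul,
            Algebra.smul_def, Ideal.Quotient.algebraMap_eq, ← map_mul]
          congr 1
          ring
  exact Module.length_eq_one _ _

theorem length_localized_eq_zero (p q : Ideal A) [p.IsPrime] (h : ¬ q ≤ p) :
    Module.length (Localization.AtPrime p) (LocalizedModule p.primeCompl (A ⧸ q)) = 0 := by
  obtain ⟨t, htq, htp⟩ := SetLike.not_le_iff_exists.mp h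
  rw [Module.length_eq_zero_iff]
  refine subsingleton_of_forall_eq 0 fun z => ?_
  induction z using LocalizedModule.induction_on with
  | _ x s =>
    rw [← LocalizedModule.zero_mk s, LocalizedModule.mk_eq]
    refine ⟨⟨t, htp⟩, ?_⟩
    simp only [smul_zero]
    obtain ⟨x, rfl⟩ := Ideal.Quotient.mk_surjective x
    rw [Submonoid.smul_def, Submonoid.smul_def, Algebra.smul_def, Algebra.smul_def,
      Ideal.Quotient.algebraMap_eq, ← map_mul, ← map_mul]
    exact Ideal.Quotient.eq_zero_iff_mem.mpr (q.mul_mem_right _ htq)

theorem eq_maximal_of_not_minimal (hA : ringKrullDim A = 1) (q : Ideal A) [q.IsPrime]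
    (hq : q ∉ minimalPrimes A) : q = IsLocalRing.maximalIdeal A := by
  by_contra hne
  have hlt : q < IsLocalRing.maximalIdeal A :=
    lt_of_le_of_ne (IsLocalRing.le_maximalIdeal (Ideal.IsPrime.ne_top ‹_›)) hne
  have h1 : q.height ≠ 0 := fun h => hq (Ideal.height_eq_zero_iff.mp h)
  have h2 := Ideal.height_add_one_le_of_lt_of_isPrime hlt
  have h3 : (IsLocalRing.maximalIdeal A).height = 1 := by
    have := IsLocalRing.maximalIdeal_height_eq_ringKrullDim (R := A)
    rw [hA] at this
    exact_mod_cast this
  rw [h3] at h2
  apply h1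
  rcases ENat.ne_top_iff_exists.mp (ne_top_of_le_ne_top ENat.one_ne_top (le_trans le_self_add h2)) with ⟨k, hk⟩
  rw [← hk] at h2 ⊢
  norm_cast at h2 ⊢
  omega

theorem length_quotient_ne_top_of_only_maximal (I : Ideal A)
    (h : ∀ q : Ideal A, q.IsPrime → I ≤ q → q = IsLocalRing.maximalIdeal A) :
    Module.length A (A ⧸ I) ≠ ⊤ := by
  haveI : IsArtinianRing (A ⧸ I) := by
    rw [isArtinianRing_iff_krullDimLE_zero, Ring.krullDimLE_zero_iff]
    intro P hP
    have h1 : P.comap (Ideal.Quotient.mk I) = IsLocalRing.maximalIdeal A := by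
      refine h _ inferInstance (fun x hx => ?_)
      rw [Ideal.mem_comap, Ideal.Quotient.eq_zero_iff_mem.mpr hx]
      exact P.zero_mem
    haveI : (P.comap (Ideal.Quotient.mk I)).IsMaximal := h1 ▸ inferInstance
    rcases Ideal.map_eq_top_or_isMaximal_of_surjective (Ideal.Quotient.mk I)
      Ideal.Quotient.mk_surjective ‹(P.comap (Ideal.Quotient.mk I)).IsMaximal› with h | h
    · rw [Ideal.map_comap_of_surjective _ Ideal.Quotient.mk_surjective] at h
      exact absurd h hP.ne_top
    · rwa [Ideal.map_comap_of_surjective _ Ideal.Quotient.mk_surjective] at h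
  rw [Module.length_eq_of_surjective (R := A ⧸ I) Ideal.Quotient.mk_surjective]
  exact Module.length_ne_top

theorem euler_lsmul_eq (hA : ringKrullDim A = 1) (a : A) (ha : ∀ p ∈ minimalPrimes A, a ∉ p)
    (s : Finset (PrimeSpectrum A)) (hs : ∀ p, p ∈ s ↔ p.asIdeal ∈ minimalPrimes A)
    (M : Type u) [AddCommGroup M] [Module A M] [hM : Module.Finite A M] :
    EulerFin (LinearMap.lsmul A M a) ∧ eul (LinearMap.lsmul A M a) =
      ∑ p ∈ s, ((Module.length (Localization.AtPrime p.asIdeal)
          (LocalizedModule p.asIdeal.primeCompl M)).toNat : ℤ) *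
        ((Module.length A (A ⧸ (p.asIdeal ⊔ Ideal.span {a}))).toNat : ℤ) := by
  classical
  induction hM using IsNoetherianRing.induction_on_isQuotientEquivQuotientPrime A with
  | subsingleton N =>
    have h0 : Module.length A N ≠ ⊤ := by simp [Module.length_eq_zero]
    refine ⟨(euler_of_finite_length _ h0).1, ?_⟩
    rw [(euler_of_finite_length _ h0).2]
    symm
    refine Finset.sum_eq_zero fun p _ => ?_
    haveI : Subsingleton (LocalizedModule p.asIdeal.primeCompl N) := by
      refine subsingleton_of_forall_eq 0 fun z => ?_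
      induction z using LocalizedModule.induction_on with
      | _ x t => rw [Subsingleton.elim x 0, LocalizedModule.zero_mk]
    simp [Module.length_eq_zero]
  | exact N₁ N₂ N₃ i π hi hπ hex h₁ h₃ =>
    obtain ⟨a1, c1⟩ := h₁
    obtain ⟨a3, c3⟩ := h₃
    obtain ⟨a2, a2'⟩ := euler_additive hi hπ hex
      (f' := LinearMap.lsmul A N₁ a) (f := LinearMap.lsmul A N₂ a) (f'' := LinearMap.lsmul A N₃ a)
      (LinearMap.ext fun v => map_smul i a v) (LinearMap.ext fun v => map_smul π a v) a1 a3
    refine ⟨a2, ?_⟩
    rw [a2', c1, c3, ← Finset.sum_add_distrib]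
    refine Finset.sum_congr rfl fun p hp => ?_
    have hp' := (hs p).mp hp
    have := Module.length_eq_add_of_exact (LocalizedModule.map p.asIdeal.primeCompl i)
      (LocalizedModule.map p.asIdeal.primeCompl π)
      (LocalizedModule.map_injective _ _ hi) (LocalizedModule.map_surjective _ _ hπ)
      (LocalizedModule.map_exact _ _ _ hex)
    rw [this, ENat.toNat_add (length_localized_ne_top _ hp' N₁) (length_localized_ne_top _ hp' N₃)]
    push_cast
    ring
  | quotient N q e =>
    haveI := q.isPrime
    have hloc : ∀ p : PrimeSpectrum A,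
        Module.length (Localization.AtPrime p.asIdeal) (LocalizedModule p.asIdeal.primeCompl N) =
          Module.length (Localization.AtPrime p.asIdeal)
            (LocalizedModule p.asIdeal.primeCompl (A ⧸ q.asIdeal)) :=
      fun p => length_localized_equiv _ e
    simp_rw [hloc]
    by_cases hq : q.asIdeal ∈ minimalPrimes A
    · have haq := ha _ hq
      have hinj : Function.Injective (LinearMap.lsmul A (A ⧸ q.asIdeal) a) := fun x y h => by
        simp only [LinearMap.lsmul_apply, Algebra.smul_def, Ideal.Quotient.algebraMap_eq] at h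
        exact mul_left_cancel₀ (mt Ideal.Quotient.eq_zero_iff_mem.mp haq) h
      have hc : Module.length A ((A ⧸ q.asIdeal) ⧸ LinearMap.range (LinearMap.lsmul A (A ⧸ q.asIdeal) a)) =
          Module.length A (A ⧸ (q.asIdeal ⊔ Ideal.span {a})) := by
        have hr : LinearMap.range (LinearMap.lsmul A (A ⧸ q.asIdeal) a) =
            Submodule.map (Submodule.mkQ q.asIdeal) (q.asIdeal ⊔ Ideal.span {a}) := by
          rw [Submodule.map_sup, Submodule.mkQ_map_self, bot_sup_eq, Ideal.span, Submodule.map_span,
            Set.image_singleton]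
          ext x
          rw [LinearMap.mem_range, Submodule.mem_span_singleton]
          obtain ⟨x, rfl⟩ := Ideal.Quotient.mk_surjective x
          constructor
          · rintro ⟨y, hy⟩
            obtain ⟨y, rfl⟩ := Ideal.Quotient.mk_surjective y
            refine ⟨y, ?_⟩
            rw [← hy, LinearMap.lsmul_apply, Algebra.smul_def, Algebra.smul_def]
            exact mul_comm _ _
          · rintro ⟨y, hy⟩
            refine ⟨Ideal.Quotient.mk _ y, ?_⟩
            rw [← hy, LinearMap.lsmul_apply, Algebra.smul_def, Algebra.smul_def]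
            exact mul_comm _ _
        rw [((Submodule.quotEquivOfEq _ _ hr).trans
          (Submodule.quotientQuotientEquivQuotient q.asIdeal _ le_sup_left)).length_eq]
      have hfin : Module.length A (A ⧸ (q.asIdeal ⊔ Ideal.span {a})) ≠ ⊤ := by
        refine length_quotient_ne_top_of_only_maximal _ fun P hP hle => ?_
        haveI := hP
        refine eq_maximal_of_not_minimal hA P fun hPm => ha P hPm ?_
        exact hle (Ideal.mem_sup_right (Ideal.mem_span_singleton_self a))
      have hf : EulerFin (LinearMap.lsmul A (A ⧸ q.asIdeal) a) :=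
        ⟨by rw [hc]; exact hfin, by rw [(eul_of_injective _ hinj).2]; simp⟩
      obtain ⟨u1, u2⟩ := euler_of_equiv e (LinearMap.lsmul A N a)
        (LinearMap.lsmul A (A ⧸ q.asIdeal) a) (LinearMap.ext fun v => map_smul e a v) hf
      refine ⟨u1, ?_⟩
      rw [u2, (eul_of_injective _ hinj).1, hc, Finset.sum_eq_single q]
      · rw [length_localized_self]
        simp
      · intro p hp hpq
        rw [length_localized_eq_zero p.asIdeal q.asIdeal fun hle => hpq ?_]
        · simp
        · exact PrimeSpectrum.ext (le_antisymm (((hs p).mp hp).2 ⟨q.isPrime, bot_le⟩ hle) hle)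
      · exact fun h => absurd ((hs q).mpr hq) h
    · have hqm := eq_maximal_of_not_minimal hA q.asIdeal hq
      have h0 : Module.length A N ≠ ⊤ := by
        rw [e.length_eq]
        exact length_quotient_ne_top_of_only_maximal _ fun P hP hle =>
          ((Ideal.IsMaximal.eq_of_le (hqm ▸ inferInstance) hP.ne_top hle).symm.trans hqm)
      refine ⟨(euler_of_finite_length _ h0).1, ?_⟩
      rw [(euler_of_finite_length _ h0).2]
      symm
      refine Finset.sum_eq_zero fun p hp => ?_
      rw [length_localized_eq_zero p.asIdeal q.asIdeal fun hle => ?_]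
      · simp
      · apply hq
        have : q.asIdeal = p.asIdeal :=
          le_antisymm hle (((hs p).mp hp).2 ⟨q.isPrime, bot_le⟩ hle)
        rw [this]
        exact (hs p).mp hp

theorem length_quot_smul_eq (hA : ringKrullDim A = 1) (M : Type u) [AddCommGroup M]
    [Module A M] [Module.Finite A M] (a : A) (ha : ∀ p ∈ minimalPrimes A, a ∉ p) :
    Module.length A (M ⧸ LinearMap.range (LinearMap.lsmul A M a)) =
      Module.length A (LinearMap.ker (LinearMap.lsmul A M a)) +
      ∑ᶠ (p : PrimeSpectrum A) (_ : p.asIdeal ∈ minimalPrimes A),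
        Module.length (Localization.AtPrime p.asIdeal) (LocalizedModule p.asIdeal.primeCompl M) *
          Module.length A (A ⧸ (p.asIdeal ⊔ Ideal.span {a})) := by
  classical
  have hfin : {p : PrimeSpectrum A | p.asIdeal ∈ minimalPrimes A}.Finite :=
    (minimalPrimes.finite_of_isNoetherianRing A).preimage
      (fun _ _ _ _ h => PrimeSpectrum.ext h)
  let s := hfin.toFinset
  have hs : ∀ p, p ∈ s ↔ p.asIdeal ∈ minimalPrimes A := fun p => hfin.mem_toFinset
  obtain ⟨hf, heq⟩ := euler_lsmul_eq hA a ha s hs M
  rw [finsum_cond_eq_sum_of_cond_iff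
    (f := fun p : PrimeSpectrum A => Module.length (Localization.AtPrime p.asIdeal)
      (LocalizedModule p.asIdeal.primeCompl M) *
      Module.length A (A ⧸ (p.asIdeal ⊔ Ideal.span {a}))) (t := s) (fun {x} _ => (hs x).symm)]
  have hterm : ∀ p ∈ s, Module.length (Localization.AtPrime p.asIdeal)
      (LocalizedModule p.asIdeal.primeCompl M) *
      Module.length A (A ⧸ (p.asIdeal ⊔ Ideal.span {a})) =
      (((Module.length (Localization.AtPrime p.asIdeal)
        (LocalizedModule p.asIdeal.primeCompl M)).toNat *
      (Module.length A (A ⧸ (p.asIdeal ⊔ Ideal.span {a}))).toNat : ℕ) : ℕ∞) := fun p hp => by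
    have hp' := (hs p).mp hp
    rw [Nat.cast_mul, ENat.natCast_toNat (length_localized_ne_top _ hp' M), ENat.natCast_toNat]
    refine length_quotient_ne_top_of_only_maximal _ fun P hP hle => ?_
    haveI := hP
    refine eq_maximal_of_not_minimal hA P fun hPm => ha P hPm ?_
    exact hle (Ideal.mem_sup_right (Ideal.mem_span_singleton_self a))
  rw [Finset.sum_congr rfl hterm, ← Nat.cast_sum, ← ENat.natCast_toNat hf.1,
    ← ENat.natCast_toNat hf.2, ← Nat.cast_add]
  congr 1
  rw [eul] at heq
  zify
  linarith

end Groth.Agent.IntThLib
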