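import Mathlib

/-! Euler characteristic `length coker - length ker` of an endomorphism and its additivity. -/

universe u

namespace Groth.Agent.IntThLib

variable {A : Type u} [CommRing A]

/-- Cokernel and kernel of finite length. -/
def EulerFin {X : Type u} [AddCommGroup X] [Module A X] (f : X →ₗ[A] X) : Prop :=
  Module.length A (X ⧸ LinearMap.range f) ≠ ⊤ ∧ Module.length A (LinearMap.ker f) ≠ ⊤

/-- `length coker - length ker`. -/
noncomputable def eul {X : Type u} [AddCommGroup X] [Module A X] (f : X →ₗ[A] X) : ℤ :=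
  ((Module.length A (X ⧸ LinearMap.range f)).toNat : ℤ) -
    ((Module.length A (LinearMap.ker f)).toNat : ℤ)

theorem length_eq_range_add_range {M N P : Type u} [AddCommGroup M] [Module A M] [AddCommGroup N]
    [Module A N] [AddCommGroup P] [Module A P] {f : M →ₗ[A] N} {g : N →ₗ[A] P}
    (h : Function.Exact f g) :
    Module.length A N = Module.length A (LinearMap.range f) + Module.length A (LinearMap.range g) := by
  rw [← h.linearMap_ker_eq]
  exact Module.length_eq_add_of_exact (LinearMap.ker g).subtype g.rangeRestrict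
    (Submodule.injective_subtype _) g.surjective_rangeRestrict
    (by
      intro y
      rw [← LinearMap.mem_ker, LinearMap.ker_rangeRestrict]
      simp)

variable {X' X X'' : Type u} [AddCommGroup X'] [Module A X'] [AddCommGroup X] [Module A X]
  [AddCommGroup X''] [Module A X'']

theorem euler_additive {i : X' →ₗ[A] X} {π : X →ₗ[A] X''} (hi : Function.Injective i)
    (hπ : Function.Surjective π) (hex : Function.Exact i π) {f' : X' →ₗ[A] X'} {f : X →ₗ[A] X}
    {f'' : X'' →ₗ[A] X''} (h₁ : i ∘ₗ f' = f ∘ₗ i) (h₂ : π ∘ₗ f = f'' ∘ₗ π)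
    (hf' : EulerFin f') (hf'' : EulerFin f'') : EulerFin f ∧ eul f = eul f' + eul f'' := by
  have e1 : ∀ x, i (f' x) = f (i x) := fun x => LinearMap.congr_fun h₁ x
  have e2 : ∀ x, π (f x) = f'' (π x) := fun x => LinearMap.congr_fun h₂ x
  -- kernels and cokernels
  let k₁ : LinearMap.ker f' →ₗ[A] LinearMap.ker f := i.restrict fun x hx => by
    rw [LinearMap.mem_ker, ← e1, LinearMap.mem_ker.mp hx, map_zero]
  let k₂ : LinearMap.ker f →ₗ[A] LinearMap.ker f'' := π.restrict fun x hx => by
    rw [LinearMap.mem_ker, ← e2, LinearMap.mem_ker.mp hx, map_zero]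
  let c₁ : (X' ⧸ LinearMap.range f') →ₗ[A] (X ⧸ LinearMap.range f) := Submodule.mapQ _ _ i (by
    rintro _ ⟨y, rfl⟩; exact ⟨i y, (e1 y).symm⟩)
  let c₂ : (X ⧸ LinearMap.range f) →ₗ[A] (X'' ⧸ LinearMap.range f'') := Submodule.mapQ _ _ π (by
    rintro _ ⟨y, rfl⟩; exact ⟨π y, (e2 y).symm⟩)
  have hexk : Function.Exact k₁ k₂ := by
    intro y
    constructor
    · intro hy
      have hy' : π (y : X) = 0 := congrArg Subtype.val hy
      obtain ⟨x, hx⟩ := (hex _).mp hy'
      refine ⟨⟨x, ?_⟩, Subtype.ext hx⟩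
      rw [LinearMap.mem_ker]
      apply hi
      rw [e1, hx, LinearMap.mem_ker.mp y.2, map_zero]
    · rintro ⟨x, rfl⟩
      exact Subtype.ext (hex.apply_apply_eq_zero (x : X'))
  have hk₁ : Function.Injective k₁ := fun a b h => Subtype.ext (hi (congrArg Subtype.val h))
  have hc₂ : Function.Surjective c₂ := fun z => by
    induction z using Submodule.Quotient.induction_on with
    | _ z =>
      obtain ⟨x, rfl⟩ := hπ z
      exact ⟨Submodule.Quotient.mk x, rfl⟩
  have hexc : Function.Exact c₁ c₂ := by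
    intro y
    induction y using Submodule.Quotient.induction_on with
    | _ y =>
      constructor
      · intro hy
        obtain ⟨z, hz⟩ := (Submodule.Quotient.mk_eq_zero _).mp hy
        obtain ⟨w, rfl⟩ := hπ z
        have h0 : π (y - f w) = 0 := by rw [map_sub, e2, hz, sub_self]
        obtain ⟨x, hx⟩ := (hex _).mp h0
        refine ⟨Submodule.Quotient.mk x, ?_⟩
        show Submodule.Quotient.mk (i x) = Submodule.Quotient.mk y
        rw [Submodule.Quotient.eq, hx]
        exact ⟨-w, by simp⟩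
      · rintro ⟨x, hx⟩
        induction x using Submodule.Quotient.induction_on with
        | _ x =>
          rw [← hx]
          show Submodule.Quotient.mk (π (i x)) = 0
          rw [hex.apply_apply_eq_zero, Submodule.Quotient.mk_zero]
  let δ := SnakeLemma.δ' f' f f'' i π hex i π hex h₁ h₂ (LinearMap.ker f'').subtype
    (LinearMap.exact_subtype_ker_map f'') (LinearMap.range f').mkQ
    (LinearMap.exact_map_mkQ_range f') hπ hi
  have hd₁ : Function.Exact k₂ δ := SnakeLemma.exact_δ'_right f' f f'' i π hex i π hex h₁ h₂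
    (LinearMap.ker f).subtype (LinearMap.exact_subtype_ker_map f) (LinearMap.ker f'').subtype
    (LinearMap.exact_subtype_ker_map f'') (LinearMap.range f').mkQ
    (LinearMap.exact_map_mkQ_range f') hπ hi k₂ (LinearMap.ext fun _ => rfl)
    (Submodule.injective_subtype _)
  have hd₂ : Function.Exact δ c₁ := SnakeLemma.exact_δ'_left f' f f'' i π hex i π hex h₁ h₂
    (LinearMap.ker f'').subtype (LinearMap.exact_subtype_ker_map f'') (LinearMap.range f').mkQ
    (LinearMap.exact_map_mkQ_range f') (LinearMap.range f).mkQ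
    (LinearMap.exact_map_mkQ_range f) hπ hi c₁ (LinearMap.ext fun _ => rfl)
    (Submodule.mkQ_surjective _)
  have l1 := length_eq_range_add_range hexk
  have l2 := length_eq_range_add_range hd₁
  have l3 := length_eq_range_add_range hd₂
  have l4 := length_eq_range_add_range hexc
  rw [← (LinearEquiv.ofInjective k₁ hk₁).length_eq] at l1
  rw [LinearMap.range_eq_top.mpr hc₂, Module.length_top] at l4
  obtain ⟨C', K'⟩ := hf'
  obtain ⟨C'', K''⟩ := hf''
  obtain ⟨a1, a2⟩ := not_or.mp (mt ENat.add_eq_top.mpr (l2 ▸ K''))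
  obtain ⟨b1, b2⟩ := not_or.mp (mt ENat.add_eq_top.mpr (l3 ▸ C'))
  have hk : Module.length A (LinearMap.ker f) ≠ ⊤ := by simp [l1, K', a1]
  have hc : Module.length A (X ⧸ LinearMap.range f) ≠ ⊤ := by simp [l4, C'', b2]
  refine ⟨⟨hc, hk⟩, ?_⟩
  rw [eul, eul, eul, l1, l2, l3, l4, ENat.toNat_add K' a1, ENat.toNat_add a1 a2,
    ENat.toNat_add b1 b2, ENat.toNat_add b2 C'']
  push_cast
  ring

theorem euler_of_finite_length (f : X →ₗ[A] X) (h : Module.length A X ≠ ⊤) :
    EulerFin f ∧ eul f = 0 := by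
  have h1 := Module.length_eq_add_of_exact (LinearMap.ker f).subtype f.rangeRestrict
    (Submodule.injective_subtype _) f.surjective_rangeRestrict (by
      intro y
      rw [← LinearMap.mem_ker, LinearMap.ker_rangeRestrict]
      simp)
  have h2 := Module.length_eq_add_of_exact (LinearMap.range f).subtype (LinearMap.range f).mkQ
    (Submodule.injective_subtype _) (Submodule.mkQ_surjective _) (LinearMap.exact_subtype_mkQ _)
  obtain ⟨a1, a2⟩ := not_or.mp (mt ENat.add_eq_top.mpr (h1 ▸ h))
  obtain ⟨b1, b2⟩ := not_or.mp (mt ENat.add_eq_top.mpr (h2 ▸ h))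
  refine ⟨⟨b2, a1⟩, ?_⟩
  have h3 := congrArg ENat.toNat (h1.symm.trans h2)
  rw [ENat.toNat_add a1 a2, ENat.toNat_add b1 b2] at h3
  rw [eul]
  omega

theorem euler_of_equiv {Y : Type u} [AddCommGroup Y] [Module A Y] (e : X ≃ₗ[A] Y) (f : X →ₗ[A] X)
    (g : Y →ₗ[A] Y) (h : e.toLinearMap ∘ₗ f = g ∘ₗ e.toLinearMap) (hg : EulerFin g) :
    EulerFin f ∧ eul f = eul g := by
  have h' : ∀ x, e (f x) = g (e x) := fun x => LinearMap.congr_fun h x
  have hr : (LinearMap.range f).map e.toLinearMap = LinearMap.range g := by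
    ext y
    constructor
    · rintro ⟨_, ⟨x, rfl⟩, rfl⟩
      exact ⟨e x, (h' x).symm⟩
    · rintro ⟨x, rfl⟩
      exact ⟨f (e.symm x), ⟨_, rfl⟩, by simp [h']⟩
  have hk : (LinearMap.ker f).map e.toLinearMap = LinearMap.ker g := by
    ext y
    constructor
    · rintro ⟨x, hx, rfl⟩
      show g (e x) = 0
      rw [← h', LinearMap.mem_ker.mp hx, map_zero]
    · intro hy
      refine ⟨e.symm y, ?_, by simp⟩
      show f (e.symm y) = 0
      apply e.injective
      rw [h', e.apply_symm_apply, map_zero, LinearMap.mem_ker.mp hy]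
  have l1 := (Submodule.Quotient.equiv _ _ e hr).length_eq
  have l2 := ((e.submoduleMap (LinearMap.ker f)).trans (LinearEquiv.ofEq _ _ hk)).length_eq
  exact ⟨⟨l1 ▸ hg.1, l2 ▸ hg.2⟩, by rw [eul, eul, l1, l2]⟩

theorem eul_of_injective (f : X →ₗ[A] X) (hf : Function.Injective f) :
    eul f = ((Module.length A (X ⧸ LinearMap.range f)).toNat : ℤ) ∧
      Module.length A (LinearMap.ker f) = 0 := by
  have : Module.length A (LinearMap.ker f) = 0 := by
    rw [LinearMap.ker_eq_bot.mpr hf, Module.length_bot]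
  exact ⟨by rw [eul, this]; simp, this⟩

end Groth.Agent.IntThLib
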