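import Groth.Agent.IntThLib.Lattice

/-! Length of `B / rB` and the order of the norm. -/

universe u

open scoped nonZeroDivisors

namespace Groth.Agent.IntThLib

theorem krullDimLE_one_of_dim {A : Type u} [CommRing A] (h : ringKrullDim A = 1) :
    Ring.KrullDimLE 1 A := by
  rw [Ring.KrullDimLE, Order.krullDimLE_iff]
  exact le_of_eq h

variable (A : Type u) [CommRing A] [IsDomain A] [IsNoetherianRing A] [Ring.KrullDimLE 1 A]
  (B : Type u) [CommRing B] [IsDomain B] [Algebra A B] [Module.Finite A B]
  (K L : Type u) [Field K] [Field L] [Algebra A K] [IsFractionRing A K] [Algebra B L]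
  [IsFractionRing B L] [Algebra K L] [Algebra A L] [IsScalarTower A B L] [IsScalarTower A K L]
  [FiniteDimensional K L]

theorem range_isLattice :
    Submodule.IsLattice K (LinearMap.range (IsScalarTower.toAlgHom A B L).toLinearMap) := by
  refine ⟨by
    rw [← Submodule.map_top]
    exact Module.Finite.fg_top.map _, ?_⟩
  rw [eq_top_iff]
  intro z _
  obtain ⟨⟨b, s⟩, hz⟩ := IsLocalization.surj B⁰ z
  -- the subalgebra generated by the image of `B`
  let T : Subalgebra K L := Algebra.adjoin K (Set.range (algebraMap B L))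
  have hT : ∀ y ∈ T, y ∈ Submodule.span K (Set.range (algebraMap B L)) := by
    intro y hy
    rw [← Subalgebra.mem_toSubmodule, Algebra.adjoin_eq_span] at hy
    refine Submodule.span_mono ?_ hy
    intro w hw
    refine Submonoid.closure_induction (motive := fun w _ => w ∈ Set.range (algebraMap B L)) ?_ ?_ ?_ hw
    · exact fun _ h => h
    · exact ⟨1, map_one _⟩
    · rintro _ _ _ _ ⟨p, rfl⟩ ⟨q, rfl⟩
      exact ⟨p * q, map_mul _ _ _⟩
  have hs0 : algebraMap B L (s : B) ≠ 0 := fun h =>
    nonZeroDivisors.ne_zero s.2 (IsFractionRing.injective B L (by rwa [map_zero]))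
  have halg : IsAlgebraic K (algebraMap B L (s : B)) := Algebra.IsAlgebraic.isAlgebraic _
  have hinv : (algebraMap B L (s : B))⁻¹ ∈ T :=
    T.inv_mem_of_algebraic (x := ⟨algebraMap B L (s : B), Algebra.subset_adjoin ⟨_, rfl⟩⟩) halg
  have hzT : z ∈ T := by
    rw [show z = algebraMap B L b * (algebraMap B L (s : B))⁻¹ by
      rw [← hz, mul_inv_cancel_right₀ hs0]]
    exact T.mul_mem (Algebra.subset_adjoin ⟨_, rfl⟩) hinv
  refine Submodule.span_mono ?_ (hT z hzT)
  rintro _ ⟨p, rfl⟩
  exact ⟨p, rfl⟩

theorem length_quotient_eq_ordFrac_norm (r : B) (hr : r ≠ 0) :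
    Module.length A (B ⧸ Ideal.span {r}) < ⊤ ∧
      ((Module.length A (B ⧸ Ideal.span {r})).toNat : ℤ) =
        CycAlg.ordFrac A K (Algebra.norm K (algebraMap B L r)) := by
  haveI := range_isLattice A B K L
  set ι := (IsScalarTower.toAlgHom A B L).toLinearMap
  set M := LinearMap.range ι
  have hι : Function.Injective ι := IsFractionRing.injective B L
  set φ : L →ₗ[K] L := Algebra.lmul K L (algebraMap B L r)
  have hr0 : algebraMap B L r ≠ 0 := fun h => hr (IsFractionRing.injective B L (by rwa [map_zero]))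
  have hdet : LinearMap.det φ ≠ 0 := by
    rw [← Algebra.norm_apply]
    exact Algebra.norm_ne_zero_iff.mpr hr0
  haveI := isLattice_map M φ (LinearMap.equivOfDetNeZero φ hdet).surjective
  have hle : M.map (φ.restrictScalars A) ≤ M := by
    rintro _ ⟨_, ⟨p, rfl⟩, rfl⟩
    exact ⟨r * p, map_mul (algebraMap B L) r p⟩
  have e : Module.length A (B ⧸ Ideal.span {r}) = relLen A M (M.map (φ.restrictScalars A)) := by
    let g : B →ₗ[A] (↥M ⧸ (M.map (φ.restrictScalars A)).submoduleOf M) :=
      Submodule.mkQ _ ∘ₗ ι.rangeRestrict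
    have hg : Function.Surjective g :=
      (Submodule.mkQ_surjective _).comp ι.surjective_rangeRestrict
    have hker : LinearMap.ker g = (Ideal.span {r}).restrictScalars A := by
      ext p
      simp only [g, LinearMap.mem_ker, LinearMap.comp_apply, Submodule.mkQ_apply,
        Submodule.Quotient.mk_eq_zero, Submodule.restrictScalars_mem, Ideal.mem_span_singleton']
      show (ι p ∈ M.map (φ.restrictScalars A)) ↔ _
      constructor
      · rintro ⟨_, ⟨q, rfl⟩, hq⟩
        refine ⟨q, hι ?_⟩
        rw [← hq]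
        show algebraMap B L (q * r) = algebraMap B L r * algebraMap B L q
        rw [map_mul, mul_comm]
      · rintro ⟨q, rfl⟩
        refine ⟨ι q, ⟨q, rfl⟩, ?_⟩
        show algebraMap B L r * algebraMap B L q = algebraMap B L (q * r)
        rw [map_mul, mul_comm]
    exact ((Submodule.Quotient.restrictScalarsEquiv A (Ideal.span {r})).symm.trans
      ((Submodule.quotEquivOfEq _ _ hker.symm).trans (g.quotKerEquivOfSurjective hg))).length_eq
  refine ⟨?_, ?_⟩
  · rw [e]
    exact (relLen_lattice_ne_top (K := K) Submodule.IsLattice.fg).lt_top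
  · rw [e, ← dist_of_le hle, dist_map_eq_ordFrac_det M φ hdet, Algebra.norm_apply]

end Groth.Agent.IntThLib
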