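import Groth.Agent.IntThLib.DetLength

/-! Cokernels of semilinear maps of free modules over a DVR. -/

universe u v

namespace Groth.Agent.IntThLib

variable {B : Type u} [CommRing B] [IsDomain B] [IsDiscreteValuationRing B]

theorem length_coker_matrix_dvr {n : ℕ} (G : Matrix (Fin n) (Fin n) B) :
    Module.length B ((Fin n → B) ⧸ LinearMap.range G.mulVecLin) =
      IsDiscreteValuationRing.addVal B G.det := by
  rw [← Ring.ord_eq_addVal]
  refine length_coker_eq_ord_det G ?_
  by_cases h : G.det = 0
  · left
    by_contra hne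
    rw [h, Ideal.span_singleton_zero, (Submodule.quotEquivOfEqBot _ rfl).length_eq] at hne
    have := (isFiniteLength_iff_isNoetherian_isArtinian.mp (Module.length_ne_top_iff.mp hne)).2
    exact IsDiscreteValuationRing.not_isField B (IsArtinianRing.isField_of_isDomain B)
  · exact Or.inr (mem_nonZeroDivisors_of_ne_zero h)

theorem length_coker_semilinear (ω : B ≃+* B) {r : ℕ} {M N : Type v} [AddCommGroup M] [Module B M]
    [AddCommGroup N] [Module B N] (bM : Module.Basis (Fin r) B M) (bN : Module.Basis (Fin r) B N)
    (χ : M →+ N) (hχ : ∀ (b : B) (x : M), χ (b • x) = ω b • χ x) :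
    Module.length B (N ⧸ Submodule.span B (Set.range χ)) =
      IsDiscreteValuationRing.addVal B
        (Matrix.of fun (a c : Fin r) => bN.repr (χ (bM c)) a).det := by
  set G : Matrix (Fin r) (Fin r) B := Matrix.of fun (a c : Fin r) => bN.repr (χ (bM c)) a
  rw [← length_coker_matrix_dvr G]
  refine LinearEquiv.length_eq (Submodule.Quotient.equiv _ _ bN.equivFun ?_)
  rw [Submodule.map_span, Matrix.range_mulVecLin]
  refine le_antisymm (Submodule.span_le.mpr ?_) (Submodule.span_le.mpr ?_)
  · rintro _ ⟨_, ⟨x, rfl⟩, rfl⟩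
    rw [SetLike.mem_coe, ← bM.sum_repr x, map_sum]
    show bN.equivFun (∑ c, χ (bM.repr x c • bM c)) ∈ _
    rw [map_sum]
    refine Submodule.sum_mem _ fun c _ => ?_
    rw [hχ, map_smul]
    exact Submodule.smul_mem _ _ (Submodule.subset_span ⟨c, funext fun a => rfl⟩)
  · rintro _ ⟨c, rfl⟩
    exact Submodule.subset_span ⟨χ (bM c), ⟨bM c, rfl⟩, funext fun a => rfl⟩

theorem length_coker_pi_semilinear (ω : B ≃+* B) {n : ℕ} (r : Fin n → ℕ)
    (M N : Fin n → Type v) [∀ i, AddCommGroup (M i)] [∀ i, Module B (M i)]
    [∀ i, AddCommGroup (N i)] [∀ i, Module B (N i)]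
    (bM : ∀ i, Module.Basis (Fin (r i)) B (M i)) (bN : ∀ i, Module.Basis (Fin (r i)) B (N i))
    (χ : ∀ i, M i →+ N i) (hχ : ∀ i (b : B) (x : M i), χ i (b • x) = ω b • χ i x) :
    Module.length B ((∀ i, N i) ⧸
        Submodule.span B (Set.range (fun (x : ∀ i, M i) (i : Fin n) => χ i (x i)))) =
      IsDiscreteValuationRing.addVal B (∏ i, Matrix.det
        (Matrix.of fun (a c : Fin (r i)) => (bN i).repr (χ i (bM i c)) a)) := by
  classical
  have hspan : Submodule.span B (Set.range (fun (x : ∀ i, M i) (i : Fin n) => χ i (x i))) =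
      Submodule.pi Set.univ (fun i => Submodule.span B (Set.range (χ i))) := by
    refine le_antisymm ?_ fun y hy => ?_
    · rw [Submodule.span_le, Set.range_subset_iff]
      exact fun x i _ => Submodule.subset_span ⟨x i, rfl⟩
    · rw [← Finset.univ_sum_single y]
      refine Submodule.sum_mem _ fun i _ => ?_
      have hle : (Submodule.span B (Set.range (χ i))).map (LinearMap.single B N i) ≤
          Submodule.span B (Set.range (fun (x : ∀ i, M i) (i : Fin n) => χ i (x i))) := by
        rw [Submodule.map_span, Submodule.span_le]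
        rintro _ ⟨_, ⟨x, rfl⟩, rfl⟩
        refine Submodule.subset_span ⟨Pi.single i x, funext fun j => ?_⟩
        exact (Pi.apply_single (fun k => χ k) (fun k => map_zero (χ k)) i x j)
      exact hle ⟨y i, hy i (Set.mem_univ i), rfl⟩
  rw [hspan, (Submodule.quotientPi fun i => Submodule.span B (Set.range (χ i))).length_eq,
    Module.length_pi_of_fintype]
  rw [Finset.sum_congr rfl (fun i _ => length_coker_semilinear ω (bM i) (bN i) (χ i) (hχ i))]
  refine (Finset.prod_induction_nonempty' _).symm
where
  Finset.prod_induction_nonempty' {ι : Type} [Fintype ι] (f : ι → B) :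
      IsDiscreteValuationRing.addVal B (∏ i, f i) = ∑ i, IsDiscreteValuationRing.addVal B (f i) := by
    classical
    induction (Finset.univ : Finset ι) using Finset.induction_on with
    | empty => simp
    | insert a s ha ih =>
      rw [Finset.prod_insert ha, Finset.sum_insert ha, IsDiscreteValuationRing.addVal_mul, ih]

end Groth.Agent.IntThLib
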